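import Cfsg.Agent.N2.Ex.X.Dat
import Cfsg.Agent.N2.Ex.Sim.Sieve
import Cfsg.Agent.OrdDiv.Table

/-!
# N2 (S3519), exceptional groups with an alternating or sporadic socle: the rows (helper41)
-/

set_option autoImplicit false
set_option maxRecDepth 100000
set_option linter.unusedSectionVars false

namespace Cfsg.Agent.N2.Ex.X

open Cfsg Cfsg.Agent.N2.Ex.Sm Cfsg.Agent.N2.Tg Cfsg.Agent.OrdDiv
open Cfsg.Agent.N2C.RX (frc frc_eq allR allR_sound ordm ordm_eq)
open Cfsg.Agent.N2C.RAlt hiding frc frc_eq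
open Cfsg.Agent.N2C.RSp

variable {l : ℕ} {tw : Bool} {p e T : ℕ} {N : Type} [Group N] [Finite N] {G : Prop} {c d : N → ℕ}

theorem ch_of {r j : ℕ} (hr : r.Prime) (h : Cj N r j) (h0 : ordm j r ≠ 0) : Ch N r (ordm j r) :=
  have := Fact.mk hr
  Ch.of_cj h (ordm_eq h0 ▸ dvd_rfl)

/-! ### alternating groups -/

/-- primes with primitive roots -/
def pl : List (ℕ × ℕ) := [(5, 2), (7, 3), (11, 2), (13, 2), (17, 3), (19, 2), (23, 5), (29, 2)]

theorem pl_spec : ∀ x ∈ pl, x.1.Prime ∧ 5 ≤ x.1 ∧ ¬ x.1 ∣ x.2 ∧ ordm x.2 x.1 ≠ 0 ∧ ordm (x.2 * x.2) x.1 ≠ 0 := by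
  simp only [pl, List.forall_mem_cons]
  refine ⟨⟨by norm_num, ?_⟩, ⟨by norm_num, ?_⟩, ⟨by norm_num, ?_⟩, ⟨by norm_num, ?_⟩, ⟨by norm_num, ?_⟩, ⟨by norm_num, ?_⟩,
    ⟨by norm_num, ?_⟩, ⟨by norm_num, ?_⟩, by simp⟩ <;> decide +kernel

/-- the data of the cycles of prime length -/
def elA (m : ℕ) : List El := (pl.filter fun x => Nat.ble x.1 m).map fun x =>
  ⟨x.1, ordm (if x.1 + 2 ≤ m then x.2 else x.2 * x.2) x.1, x.1 * (x.1 - 1) * (m - x.1).factorial / 2⟩

theorem elA_ok {m : ℕ} (f : N ≃* alternatingGroup (Fin m)) : ∀ x ∈ elA m, x.Ok N := by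
  intro x hx
  obtain ⟨y, hy, rfl⟩ := List.mem_map.1 hx
  obtain ⟨h1, h2⟩ := List.mem_filter.1 hy
  obtain ⟨hr, h5, h3, h4, h6⟩ := pl_spec y h1
  have h7 : y.1 ≤ m := Nat.le_of_ble_eq_true h2
  refine ⟨hr, h5, ?_, fun _ => (nz hr (by omega) h7 (Nat.mul_div_le _ 2)).map f.symm.toMonoidHom f.symm.injective⟩
  obtain ⟨g, hg⟩ := exists_order (c := m) hr (by omega) h7
  dsimp only
  split_ifs with h
  exacts [ch_of hr (Cj.congr f.symm ⟨g, hg, conj_all hr hg h h3⟩) h4, ch_of hr (Cj.congr f.symm ⟨g, hg, conj_sq hr hg h3⟩) h6]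

theorem alt_of (R : Rx l tw p e T N G c d) {m : ℕ} (f : N ≃* alternatingGroup (Fin m)) (hm : 5 ≤ m) {al : ℕ → Bool}
    {tris : List (ℕ × ℕ × ℕ)} (hT : ∀ x ∈ tris, Tri (alternatingGroup (Fin m)) x.1 x.2.1 x.2.2) (hal : al p = true)
    (h : chkAll al 0 (m.factorial / 2) (if m = 6 then 1440 else m.factorial) (elA m) tris = true) : G := by
  refine R.chkAll ((Nat.card_congr f.toEquiv).trans (card_alt (by omega)))
    (((Nat.card_congr (MulAut.congr f).toEquiv).trans (card_aut hm)).dvd) ?_ ?_ (elA_ok f)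
    (fun x hx => (Tr.of_tri (hT x hx)).congr f.symm) hal (Nat.zero_le _) h
  · split_ifs with k
    · rw [k]
      decide
    · exact Nat.div_dvd_of_dvd (Nat.dvd_factorial two_pos (by omega))
  · split_ifs
    exacts [by norm_num, m.factorial_ne_zero]

theorem chk_alt : allR (fun m => frc (m.factorial / 2) fun o => frc m.factorial fun A =>
    chkAll (fun _ => true) 0 o A (elA m) []) 22 9 = true := by decide +kernel

theorem no_entry (ht : Ty l tw) : ∀ f ∈ Cb.tpT l, ¬ 22 ∣ f.1 ∧ ¬ 28 ∣ f.1 := by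
  rcases ht with rfl | ⟨-, rfl | rfl | rfl⟩ <;> decide

theorem big_false (R : Rx l tw p e T N G c d) {r h : ℕ} (hr : r.Prime) (h5 : 5 ≤ r) (hp : r ≠ p) (k : Ch N r h)
    (hh : h = 22 ∨ h = 28) : False := by
  obtain ⟨g, j, h1, h2, h3⟩ := k
  obtain ⟨f, hf, n, -, h4, -, -, -, h6, -⟩ := R.mt g r hr h5 hp h1
  have h7 := (h3.trans (h6 j h2)).trans h4
  rcases hh with rfl | rfl
  exacts [(no_entry R.typ f hf).1 h7, (no_entry R.typ f hf).2 h7]

/-- **the row of the alternating groups** -/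
theorem rowAlt : Sm.Row qAlt := by
  rintro - l tw p e T N _ _ _ G c d - ⟨hL, m, hm, ⟨f⟩⟩ R
  by_cases h1 : 31 ≤ m
  · have k : ∀ r j, r.Prime → 5 ≤ r → r ≤ 29 → ¬ r ∣ j → ordm j r ≠ 0 → Ch N r (ordm j r) := fun r j hr h5 h2 h3 h4 => by
      obtain ⟨g, hg⟩ := exists_order (c := m) hr (by omega) (by omega)
      exact ch_of hr (Cj.congr f.symm ⟨g, hg, conj_all hr hg (by omega) h3⟩) h4
    by_cases h2 : 23 = p
    · exact (big_false R (r := 29) (by norm_num) (by norm_num) (by omega)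
        (k 29 2 (by norm_num) (by norm_num) le_rfl (by norm_num) (by decide +kernel)) (Or.inr (by decide +kernel))).elim
    · exact (big_false R (r := 23) (by norm_num) (by norm_num) h2
        (k 23 5 (by norm_num) (by norm_num) (by norm_num) (by norm_num) (by decide +kernel)) (Or.inl (by decide +kernel))).elim
  by_cases h2 : 9 ≤ m
  · have k := allR_sound chk_alt h2 (by omega)
    rw [frc_eq, frc_eq] at k
    exact alt_of R f hm (fun _ hx => absurd hx List.not_mem_nil) rfl (by rwa [if_neg (by omega)])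
  have k : ∀ a, a ≠ p → (!Nat.beq p a) = true := fun a h => by rw [Bool.not_eq_true', Sm.beq_false]; exact h.symm
  obtain rfl | rfl | rfl | rfl : m = 5 ∨ m = 6 ∨ m = 7 ∨ m = 8 := by omega
  · refine alt_of R f hm (al := fun p => !Nat.beq p 2 && !Nat.beq p 5) (tris := [(2, 3, 5)]) (List.forall_mem_singleton.2 tri_5_2_3_5) ?_
      (by decide +kernel)
    rw [k 2 fun a => hL (lie_of_alt f (Or.inl ⟨rfl, Or.inl a.symm⟩)), k 5 fun a => hL (lie_of_alt f (Or.inl ⟨rfl, Or.inr a.symm⟩))]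
    rfl
  · exact alt_of R f hm (al := fun p => !Nat.beq p 3) (tris := [(2, 4, 5)]) (List.forall_mem_singleton.2 tri_6_2_4_5)
      (k 3 fun a => hL (lie_of_alt f (Or.inr (Or.inl ⟨rfl, a.symm⟩)))) (by decide +kernel)
  · exact alt_of R f hm (al := fun _ => true) (tris := [(2, 4, 7)]) (List.forall_mem_singleton.2 tri_7_2_4_7) rfl (by decide +kernel)
  · exact alt_of R f hm (al := fun p => !Nat.beq p 2) (tris := [(2, 5, 7), (3, 4, 7), (3, 4, 5)])
      (List.forall_mem_cons.2 ⟨tri_8_2_5_7, List.forall_mem_cons.2 ⟨tri_8_3_4_7, List.forall_mem_singleton.2 tri_8_3_4_5⟩⟩)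
      (k 2 fun a => hL (lie_of_alt f (Or.inr (Or.inr ⟨rfl, a.symm⟩)))) (by decide +kernel)

/-! ### sporadic groups and the Tits group -/

/-- the data of the primes which divide the order once -/
def elS (g : Grp) : List El := (tL g).map fun x => ⟨x.1, ordm x.2.2.2 x.1, x.2.1 * x.2.2.1⟩

/-- the check -/
def ckS (g : Grp) (o : ℕ) (ex : List El) (tris : List (ℕ × ℕ × ℕ)) : Bool :=
  ((tL g).all fun x => Nat.ble 5 x.1 && !Nat.beq (ordm x.2.2.2 x.1) 0) && !Nat.beq o 0 &&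
    chkAll (fun _ => true) 0 o (2 * o) (ex ++ elS g) tris

theorem spor_of (R : Rx l tw p e T N G c d) {g : Grp} {o : ℕ} (h : OrdDiv.Real g N) (ho : Nat.card N = o)
    (hA : Nat.card (MulAut N) ∣ 2 * Nat.card N) {ex : List El} {tris : List (ℕ × ℕ × ℕ)} (hE : ∀ x ∈ ex, x.Ok N)
    (hT : ∀ x ∈ tris, Tr N x.1 x.2.1 x.2.2) (hc : ckS g o ex tris = true) : G := by
  simp only [ckS, Bool.and_eq_true, List.all_eq_true, Bool.not_eq_true', Sm.beq_false, Nat.ble_eq] at hc
  refine R.chkAll ho (ho ▸ hA) (dvd_mul_left _ _) (mul_ne_zero two_ne_zero hc.1.2)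
    (List.forall_mem_append.2 ⟨hE, fun x hx => ?_⟩) hT rfl (Nat.zero_le _) hc.2
  obtain ⟨y, hy, rfl⟩ := List.mem_map.1 hx
  have L := locs h y hy
  exact ⟨L.prime, (hc.1.1 y hy).1, ch_of L.prime L.cj (hc.1.1 y hy).2, fun _ => L.nz⟩

/-- the names with additional data -/
def exS (g : Grp) : List El := if g = .mcl ∨ g = .he ∨ g = .tits then [⟨5, 4, 0⟩] else []

/-- the names with triples -/
def trS (g : Grp) : List (ℕ × ℕ × ℕ) := if g = .j2 then [(2, 3, 10), (2, 3, 7)] else []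

theorem chk_spor : (spor.all fun x => ckS x.1 x.2 (exS x.1) (trS x.1)) = true := by decide +kernel

/-- **the row of the sporadic groups and the Tits group** -/
theorem rowSpor : Sm.Row qSpor := by
  intro _ l tw p e T N _ _ _ G c d hna hS R
  have hA : Nat.card (MulAut N) ∣ 2 * Nat.card N := by
    rw [← H934.OutB.card_out_mul _ hna]
    exact Nat.mul_dvd_mul_right (SM.Tx.out_dvd hS.2) _
  obtain ⟨⟨g, o⟩, hx, h⟩ := H977.T5Spor.exists_real hS.2
  refine spor_of R h (table_spor _ _ hx h) hA (fun y hy => ?_) (fun y hy => ?_) (List.all_eq_true.1 chk_spor _ hx)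
  · dsimp only [exS] at hy
    split_ifs at hy with k
    swap
    · exact absurd hy List.not_mem_nil
    obtain rfl := List.mem_singleton.1 hy
    refine ⟨Nat.prime_five, le_rfl, ?_, fun a => absurd rfl a⟩
    rcases k with rfl | rfl | rfl
    exacts [ch_mcl h, ch_he h, ch_tits h]
  · dsimp only [trS] at hy
    split_ifs at hy with k
    swap
    · exact absurd hy List.not_mem_nil
    subst k
    simp only [List.mem_cons, List.not_mem_nil, or_false] at hy
    rcases hy with rfl | rfl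
    exacts [tr_j2 h, Tr.of_tri (MJ.tri_j2 h)]

/-- **[SimAlt]** -/
theorem simAlt (b : BoxRx) : BoxSim qAlt := sim_of b rowAlt

/-- **[SimSpor]** -/
theorem simSpor (b : BoxRx) : BoxSim qSpor := sim_of b rowSpor

end Cfsg.Agent.N2.Ex.X
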