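import Cfsg.Agent.N2.Ex.Sim.Num
import Cfsg.Agent.N2.Cl.RSp.Data
import Cfsg.Agent.N2.Tri.MJ
import Cfsg.Agent.N2.Cl.RAlt.Dat
import Cfsg.Agent.N2.Cl.RAlt.Tri
import Cfsg.Agent.N2.Cl.RAlt.Deg
import Cfsg.Agent.TH.Spor.InOne
import Cfsg.Agent.SM.Tx.SporA
import Cfsg.Agent.H977.T5SporA

/-!
# N2 (S3519), exceptional groups with an alternating or sporadic socle: data of the socle (helper41)
-/

set_option autoImplicit false
set_option maxRecDepth 100000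

namespace Cfsg.Agent.N2.Ex.X

open Cfsg Cfsg.Agent.N2.Ex.Sm Cfsg.Agent.N2.Tg Cfsg.Agent.TAB Cfsg.Agent.TAB.Eng Cfsg.Agent.TH.Spor

variable {N : Type} [Group N]

theorem ord_two : 4 ∣ orderOf ((2 : ℕ) : ZMod 5) := by
  rw [show orderOf ((2 : ℕ) : ZMod 5) = 4 from (orderOf_eq_iff (by norm_num)).2 ⟨by decide, by decide⟩]

/-- a type of order five which is a class -/
theorem ch_of_one [Finite N] {D : Dat} {T : TD N D} (hm : T.Mass) {s : ℕ} (h : One T s) (h5 : D.ord s = 5)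
    (h2 : D.pwf s 2 = s) : Ch N 5 4 := by
  obtain ⟨x, hx, -⟩ := id h
  exact ⟨x, 2, by rw [T.ord, hx, h5], h.conj hm hx (by rw [T.pow, hx, h2]), ord_two⟩

theorem ch_mcl [Finite N] (h : Spor.IsoMcL N) : Ch N 5 4 := by
  obtain ⟨T, h1, h2, -⟩ := in_mcl h
  exact ch_of_one h1 (one_of_split h2 h1 [(9, 15, 2), (11, 11, 1), (13, 13, 1), (15, 15, 1), (16, 17, 2), (17, 17, 1)]
    (L := [5]) (by decide +kernel) 5 List.mem_cons_self) rfl rfl

theorem ch_tits [Finite N] (h : Lie.IsoTits N) : Ch N 5 4 := by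
  obtain ⟨T, h1, h2, -⟩ := Sm2.Tits.tab_of h
  exact ch_of_one h1 (h2.one 7 (by decide)) rfl rfl

open Cfsg.Agent.H825.HT.He7 in
theorem ch_he (h : Spor.IsoHe N) : Ch N 5 4 := by
  obtain ⟨e⟩ := h
  refine Ch.map e.symm.toMonoidHom e.symm.injective ?_
  have h1 : orderOf (X 16) = 5 := X_ord 16
  obtain ⟨i, hi⟩ := X_cov (X 16 ^ 2)
  have h2 : orderOf (X i) = 5 := by
    obtain ⟨c, hc⟩ := isConj_iff.1 hi.symm
    rw [← hc, orderOf_conj', (show (orderOf (X 16)).Coprime 2 by rw [h1]; norm_num).orderOf_pow, h1]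
  have h3 : ∀ j : Fin 33, O33.getD j 0 = 5 → j = 16 := by decide
  obtain rfl := h3 i ((X_ord i).symm.trans h2)
  exact ⟨_, 2, h1, hi, ord_two⟩

open Cfsg.Agent.N2.Tg.PE Cfsg.Agent.SB.SporF Cfsg.Agent.SB.Spor in
theorem ck_j2 : triChk J2.lk J2.mk 100 604800 J2.E0 1283 67240708 2 3 10
    [258, 131587, 1108135248129, 55556971264649396995, 4311810561, 2211958620675, 1103840215554]
    [(0, [7, 6]), (1, [5, 4]), (2, [3, 2]), (8, [1])] = true := by decide +kernel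

open Cfsg.Agent.N2.Tg.PE Cfsg.Agent.SB.SporF Cfsg.Agent.SB.Spor in
theorem tr_j2 (h : Spor.IsoJ2 N) : Tr N 2 3 10 := by
  obtain ⟨e⟩ := h
  obtain ⟨f⟩ := Cfsg.Agent.J2.HundredGens.J2_iso S1619.result.2.2.2
  exact Tr.congr (e.trans f).symm (gen_of_chk (J2.tab _) J2.hyp.h0 J2.hyp.hN ck_j2)

end Cfsg.Agent.N2.Ex.X
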